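import Groth.Agent.GenNormFlatLib.Main
import Mathlib

/-! Generic flatness of the graded pieces of a filtration `J^n M` over an integral quotient of the base. -/

set_option autoImplicit false
set_option linter.style.haveILetI false
set_option maxHeartbeats 1000000

universe u

open TensorProduct

namespace GradedStrat

variable {A₀ : Type u} [CommRing A₀] [IsNoetherianRing A₀]
variable {B₀ : Type u} [CommRing B₀] [Algebra A₀ B₀] [Algebra.FiniteType A₀ B₀] (J : Ideal B₀)

/-- The graded piece in degree `n`. -/
abbrev Piece (X : Type u) [AddCommGroup X] [Module B₀ X] (n : ℕ) : Type u :=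
  ↥(J ^ n • (⊤ : Submodule B₀ X)) ⧸
    Submodule.comap (J ^ n • (⊤ : Submodule B₀ X)).subtype (J ^ (n + 1) • ⊤)

attribute [local instance] Algebra.TensorProduct.rightAlgebra in
set_option synthInstance.maxHeartbeats 400000 in
theorem exists_flat_piece (p : Ideal A₀) [p.IsPrime] (X : Type u) [AddCommGroup X] [Module B₀ X] [Module A₀ X]
    [IsScalarTower A₀ B₀ X] [Module.Finite B₀ X] :
    ∃ f : A₀, f ∉ p ∧ ∀ (n : ℕ) (L : Type u) [CommRing L] [Algebra A₀ L] [Algebra (A₀ ⧸ p) L]
      [IsScalarTower A₀ (A₀ ⧸ p) L], IsUnit (algebraMap A₀ L f) →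
        Module.Flat L (L ⊗[A₀] Piece J X n) := by
  haveI : IsNoetherianRing B₀ := Algebra.FiniteType.isNoetherianRing A₀ B₀
  haveI : Algebra.FiniteType A₀ (reesAlgebra J) :=
    Algebra.FiniteType.trans (S := B₀) inferInstance inferInstance
  let R := reesAlgebra J
  let F := J.stableFiltration (⊤ : Submodule B₀ X)
  let N : Submodule R (PolynomialModule B₀ X) := F.submodule
  letI : AddCommGroup N := Submodule.addCommGroup N
  haveI : Module.Finite R N := Module.Finite.iff_fg.2 <|
    (Ideal.Filtration.submodule_fg_iff_stable _ (fun i => IsNoetherian.noetherian _)).2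
      (J.stableFiltration_stable ⊤)
  let Q : Submodule R N := J.map (algebraMap B₀ R) • ⊤
  let W := ↥N ⧸ Q
  let C := A₀ ⧸ p
  haveI : Module.Finite (C ⊗[A₀] R) ((C ⊗[A₀] R) ⊗[R] W) := Module.Finite.base_change R _ W
  obtain ⟨c, hc, hfree⟩ : FlatLib.GFree C (C ⊗[A₀] W) :=
    (FlatLib.gfree_of_finite (R := C) (C ⊗[A₀] R) ((C ⊗[A₀] R) ⊗[R] W)).of_equiv
      (Algebra.IsPushout.cancelBaseChange A₀ C R (C ⊗[A₀] R) W)
  obtain ⟨f, rfl⟩ := Ideal.Quotient.mk_surjective c
  refine ⟨f, fun h => hc (Ideal.Quotient.eq_zero_iff_mem.2 h), fun n L _ _ _ _ hu => ?_⟩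
  have hu' : IsUnit (algebraMap C L (Ideal.Quotient.mk p f)) := by
    rwa [← Ideal.Quotient.algebraMap_eq, ← IsScalarTower.algebraMap_apply]
  haveI : Module.Free L (L ⊗[C] (C ⊗[A₀] W)) := FlatLib.free_tensor_of_isUnit L hu' hfree
  haveI : Module.Flat L (L ⊗[A₀] W) :=
    Module.Flat.of_linearEquiv (AlgebraTensorModule.cancelBaseChange A₀ C L L W).symm
  let S := J ^ n • (⊤ : Submodule B₀ X)
  let S' := Submodule.comap S.subtype (J ^ (n + 1) • (⊤ : Submodule B₀ X))
  have hN : ∀ (z : N) (i : ℕ), z.1.coeff i ∈ J ^ i • (⊤ : Submodule B₀ X) := fun z i => z.2 i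
  let sg : S →ₗ[A₀] N :=
    { toFun := fun w => ⟨PolynomialModule.single B₀ n w.1, fun i => by
        by_cases h : n = i
        · subst h
          show (PolynomialModule.single B₀ n w.1).coeff n ∈ J ^ n • (⊤ : Submodule B₀ X)
          simpa [PolynomialModule.coeff_single] using w.2
        · simp [PolynomialModule.coeff_single, h]⟩
      map_add' := fun z z' => Subtype.ext (PolynomialModule.single_add _ _ _)
      map_smul' := fun a z => Subtype.ext (by
        show PolynomialModule.single B₀ n (a • (z : X)) = a • PolynomialModule.single B₀ n (z : X)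
        rw [← algebraMap_smul B₀ a (z : X), PolynomialModule.single_smul, algebraMap_smul]) }
  let cf : N →ₗ[A₀] S :=
    { toFun := fun z => ⟨z.1.coeff n, hN z n⟩
      map_add' := fun z z' => Subtype.ext (by simp)
      map_smul' := fun a z => Subtype.ext rfl }
  have hsg : ∀ w : S, cf (sg w) = w := fun w => by
    apply Subtype.ext
    show (PolynomialModule.single B₀ n w.1).coeff n = w.1
    simp [PolynomialModule.coeff_single]
  let inj : Piece J X n →ₗ[A₀] W :=
    (S'.restrictScalars A₀).liftQ ((Q.mkQ.restrictScalars A₀) ∘ₗ sg) (fun w hw => by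
      have key : ∀ y : X, y ∈ J ^ (n + 1) • (⊤ : Submodule B₀ X) → ∀ h : y ∈ S,
          sg ⟨y, h⟩ ∈ Q := by
        rw [pow_succ', Submodule.mul_smul]
        intro y hy
        induction hy using Submodule.smul_induction_on' with
        | smul r hr x hx =>
          intro h
          have e : sg ⟨r • x, h⟩ = algebraMap B₀ R r • sg ⟨x, hx⟩ := by
            apply Subtype.ext
            show PolynomialModule.single B₀ n (r • x) = algebraMap B₀ R r • PolynomialModule.single B₀ n x
            rw [algebraMap_smul, PolynomialModule.single_smul]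
          rw [e]
          exact Submodule.smul_mem_smul (Ideal.mem_map_of_mem _ hr) trivial
        | add x hx y hy ihx ihy =>
          intro h
          have hle : J • J ^ n • (⊤ : Submodule B₀ X) ≤ S := Submodule.smul_le_right
          rw [show (⟨x + y, h⟩ : S) = ⟨x, hle hx⟩ + ⟨y, hle hy⟩ from rfl, map_add]
          exact Q.add_mem (ihx _) (ihy _)
      rw [LinearMap.mem_ker]
      exact (Submodule.Quotient.mk_eq_zero _).2 (key w.1 hw w.2))
  let pr : W →ₗ[A₀] Piece J X n :=
    (Q.restrictScalars A₀).liftQ ((S'.mkQ.restrictScalars A₀) ∘ₗ cf) (fun z hz => by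
      rw [LinearMap.mem_ker]
      refine (Submodule.Quotient.mk_eq_zero _).2 ?_
      show z.1.coeff n ∈ J ^ (n + 1) • (⊤ : Submodule B₀ X)
      rw [pow_succ', Submodule.mul_smul]
      have key : ∀ r ∈ J.map (algebraMap B₀ R), ∀ x : N, (r • x : N).1.coeff n ∈ J • J ^ n • (⊤ : Submodule B₀ X) := by
        intro r hr
        induction hr using Submodule.span_induction with
        | mem r hr =>
          obtain ⟨b, hb, rfl⟩ := hr
          intro x
          have e : ((algebraMap B₀ R b • x : N) : PolynomialModule B₀ X).coeff n = b • (x : PolynomialModule B₀ X).coeff n := by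
            rw [algebraMap_smul]; rfl
          rw [e]
          exact Submodule.smul_mem_smul hb (hN x n)
        | zero => intro x; rw [zero_smul]; exact Submodule.zero_mem _
        | add r s _ _ ihr ihs =>
          intro x
          rw [add_smul]
          simpa using Submodule.add_mem _ (ihr x) (ihs x)
        | smul a r _ ih =>
          intro x
          rw [smul_eq_mul, mul_comm, mul_smul]
          exact ih _
      refine Submodule.smul_induction_on (show z ∈ Q from hz) (fun r hr x _ => key r hr x) (fun x y hx hy => ?_)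
      simpa using Submodule.add_mem _ hx hy)
  have hinv : pr ∘ₗ inj = LinearMap.id := by
    refine LinearMap.ext fun x => ?_
    obtain ⟨w, rfl⟩ := Submodule.Quotient.mk_surjective _ x
    show Submodule.Quotient.mk (cf (sg w)) = Submodule.Quotient.mk w
    rw [hsg]
  exact Module.Flat.of_retract (inj.baseChange L) (pr.baseChange L)
    (by rw [← LinearMap.baseChange_comp, hinv, LinearMap.baseChange_id])

end GradedStrat
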