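import Groth.Agent.GradedStratLib.Basic
import Mathlib

/-! The flat stratum over an open piece of an irreducible closed subset of the base. -/

set_option autoImplicit false
set_option linter.style.haveILetI false
set_option maxHeartbeats 1000000

universe u

open TensorProduct

namespace GradedStrat

variable {A₀ : Type u} [CommRing A₀] [IsNoetherianRing A₀]
variable {B₀ : Type u} [CommRing B₀] [Algebra A₀ B₀] [Algebra.FiniteType A₀ B₀] (J : Ideal B₀)
variable (M : Type u) [AddCommGroup M] [Module B₀ M] [Module A₀ M] [IsScalarTower A₀ B₀ M] [Module.Finite B₀ M]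

/-- The image of `Jⁿ M` in `A ⊗ M`. -/
abbrev Im (A : Type u) [CommRing A] [Algebra A₀ A] (n : ℕ) : Submodule A (A ⊗[A₀] M) :=
  LinearMap.range (LinearMap.baseChange A ((J ^ n • (⊤ : Submodule B₀ M)).restrictScalars A₀).subtype)

omit [IsNoetherianRing A₀] [Algebra.FiniteType A₀ B₀] [Module.Finite B₀ M] in
theorem im_eq_span (A : Type u) [CommRing A] [Algebra A₀ A] (n : ℕ) :
    Im (A₀ := A₀) J M A n = Submodule.span A
      (TensorProduct.mk A₀ A M 1 '' (↑(J ^ n • (⊤ : Submodule B₀ M)) : Set M)) := by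
  apply le_antisymm
  · rintro _ ⟨t, rfl⟩
    induction t using TensorProduct.induction_on with
    | zero => simp
    | tmul a x =>
      rw [LinearMap.baseChange_tmul, show a ⊗ₜ[A₀] (Submodule.subtype _ x) = a • ((1 : A) ⊗ₜ[A₀] (x : M)) by
        rw [TensorProduct.smul_tmul', smul_eq_mul, mul_one]; rfl]
      exact Submodule.smul_mem _ _ (Submodule.subset_span ⟨_, x.2, rfl⟩)
    | add x y hx hy => rw [map_add]; exact Submodule.add_mem _ hx hy
  · rw [Submodule.span_le]
    rintro _ ⟨m, hm, rfl⟩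
    exact ⟨1 ⊗ₜ ⟨m, hm⟩, by simp⟩

omit [IsNoetherianRing A₀] [Algebra.FiniteType A₀ B₀] [Module.Finite B₀ M] in
theorem ker_mk_one (p : Ideal A₀) :
    LinearMap.ker (TensorProduct.mk A₀ (A₀ ⧸ p) M 1) =
      ((p.map (algebraMap A₀ B₀)) • (⊤ : Submodule B₀ M)).restrictScalars A₀ := by
  rw [Ideal.smul_restrictScalars, Submodule.restrictScalars_top]
  ext m
  rw [LinearMap.mem_ker, ← Submodule.Quotient.mk_eq_zero (p • (⊤ : Submodule A₀ M))]
  have : TensorProduct.quotTensorEquivQuotSMul M p (TensorProduct.mk A₀ (A₀ ⧸ p) M 1 m) = Submodule.Quotient.mk m := by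
    show TensorProduct.quotTensorEquivQuotSMul M p (Ideal.Quotient.mk p 1 ⊗ₜ m) = _
    rw [TensorProduct.quotTensorEquivQuotSMul_mk_tmul, one_smul]
  rw [← this, LinearEquiv.map_eq_zero_iff]

/-- The coordinate ring of a stratum. -/
abbrev LA (p : Ideal A₀) (f : A₀) : Type u := Localization.Away (Ideal.Quotient.mk p f)

/-- Flat pieces over a localization of an integral quotient. -/
theorem exists_flat_stratum (p : Ideal A₀) [p.IsPrime] :
    ∃ f : A₀, f ∉ p ∧ ∀ f' : A₀, f ∣ f' → ∀ (n : ℕ),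
      Module.Flat (LA p f')
        ↥(Submodule.map (Im (A₀ := A₀) J M (LA p f') (n + 1)).mkQ (Im (A₀ := A₀) J M (LA p f') n)) := by
  let C := A₀ ⧸ p
  let P : Submodule B₀ M := (p.map (algebraMap A₀ B₀)) • ⊤
  obtain ⟨f, hf, hflat⟩ := exists_flat_piece J p (M ⧸ P)
  refine ⟨f, hf, fun f' hdvd n => ?_⟩
  let h := Ideal.Quotient.mk p f'
  let L := LA p f'
  have hu : IsUnit (algebraMap A₀ L f) := by
    refine isUnit_of_dvd_unit (map_dvd (algebraMap A₀ L) hdvd) ?_
    rw [IsScalarTower.algebraMap_apply A₀ C L]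
    exact IsLocalization.Away.algebraMap_isUnit (S := L) h
  haveI := hflat n L hu
  let φ : M →ₗ[A₀] C ⊗[A₀] M := TensorProduct.mk A₀ C M 1
  let S : ℕ → Submodule C (C ⊗[A₀] M) := Im (A₀ := A₀) J M C
  let G := ↥(Submodule.map (S (n + 1)).mkQ (S n))
  let Pn := Piece J (M ⧸ P) n
  let M' := ↥((J ^ n • (⊤ : Submodule B₀ M)).restrictScalars A₀)
  have hcar : ∀ k, ((S k).restrictScalars A₀) = ((J ^ k • (⊤ : Submodule B₀ M)).restrictScalars A₀).map φ := by
    intro k
    show (Im (A₀ := A₀) J M C k).restrictScalars A₀ = _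
    rw [im_eq_span, Submodule.restrictScalars_span A₀ C Ideal.Quotient.mk_surjective]
    exact (Submodule.span_image φ).trans (by
      rw [show (↑(J ^ k • (⊤ : Submodule B₀ M)) : Set M) = ↑((J ^ k • (⊤ : Submodule B₀ M)).restrictScalars A₀) from rfl,
        Submodule.span_eq])
  have hJ : ∀ k, (J ^ k • (⊤ : Submodule B₀ (M ⧸ P))) = (J ^ k • (⊤ : Submodule B₀ M)).map P.mkQ := fun k => by
    rw [Submodule.map_smul'', Submodule.map_top, Submodule.range_mkQ]
  let a : M' →ₗ[A₀] Pn :=
    ((Submodule.mkQ _).restrictScalars A₀) ∘ₗ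
      (LinearMap.codRestrict ((J ^ n • (⊤ : Submodule B₀ (M ⧸ P))).restrictScalars A₀)
        ((P.mkQ.restrictScalars A₀) ∘ₗ Submodule.subtype _) (fun w => by
          show P.mkQ (w : M) ∈ J ^ n • (⊤ : Submodule B₀ (M ⧸ P))
          rw [hJ]; exact Submodule.mem_map_of_mem w.2))
  let b : M' →ₗ[A₀] G :=
    LinearMap.codRestrict ((Submodule.map (S (n + 1)).mkQ (S n)).restrictScalars A₀)
      (((S (n + 1)).mkQ.restrictScalars A₀) ∘ₗ φ ∘ₗ Submodule.subtype _) (fun w => by
        refine Submodule.mem_map_of_mem ?_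
        show φ (w : M) ∈ (S n).restrictScalars A₀
        rw [hcar]; exact Submodule.mem_map_of_mem w.2)
  have ha : Function.Surjective a := by
    intro y
    obtain ⟨⟨z, hz⟩, rfl⟩ := Submodule.Quotient.mk_surjective _ y
    have hz' := hz
    rw [hJ] at hz'
    obtain ⟨w, hw, hwz⟩ := hz'
    exact ⟨⟨w, hw⟩, congrArg Submodule.Quotient.mk (Subtype.ext hwz)⟩
  have hb : Function.Surjective b := by
    rintro ⟨_, z, hz, rfl⟩
    have hz' : z ∈ (S n).restrictScalars A₀ := hz
    rw [hcar] at hz'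
    obtain ⟨w, hw, hwz⟩ := hz'
    exact ⟨⟨w, hw⟩, Subtype.ext (congrArg (fun t => (S (n + 1)).mkQ t) hwz)⟩
  have hker : LinearMap.ker a = LinearMap.ker b := by
    ext w
    have h1 : w ∈ LinearMap.ker a ↔ P.mkQ (w : M) ∈ J ^ (n + 1) • (⊤ : Submodule B₀ (M ⧸ P)) :=
      Submodule.Quotient.mk_eq_zero _
    have h2 : w ∈ LinearMap.ker b ↔ φ (w : M) ∈ (S (n + 1)).restrictScalars A₀ := by
      rw [LinearMap.mem_ker]
      exact Subtype.ext_iff.trans (Submodule.Quotient.mk_eq_zero _)
    rw [h1, h2, hJ, hcar]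
    constructor
    · rintro ⟨v, hv, hvw⟩
      refine ⟨v, hv, ?_⟩
      have : v - (w : M) ∈ LinearMap.ker φ := by
        rw [ker_mk_one (B₀ := B₀)]; exact (Submodule.Quotient.eq P).1 hvw
      rw [LinearMap.mem_ker, map_sub, sub_eq_zero] at this
      exact this
    · rintro ⟨v, hv, hvw⟩
      refine ⟨v, hv, (Submodule.Quotient.eq P).2 ?_⟩
      show v - (w : M) ∈ P.restrictScalars A₀
      rw [← ker_mk_one (B₀ := B₀), LinearMap.mem_ker, map_sub, sub_eq_zero]
      exact hvw
  let e : G ≃ₗ[A₀] Pn :=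
    (b.quotKerEquivOfSurjective hb).symm ≪≫ₗ Submodule.quotEquivOfEq _ _ hker.symm ≪≫ₗ a.quotKerEquivOfSurjective ha
  let i₀ : G →ₗ[A₀] C ⊗[A₀] Pn := (TensorProduct.mk A₀ C Pn 1) ∘ₗ e.toLinearMap
  let i : G →ₗ[C] C ⊗[A₀] Pn := LinearMap.extendScalarsOfSurjective Ideal.Quotient.mk_surjective i₀
  let r : C ⊗[A₀] Pn →ₗ[C] G := LinearMap.liftBaseChange C e.symm.toLinearMap
  have hri : r ∘ₗ i = LinearMap.id := by
    refine LinearMap.ext fun x => ?_
    show LinearMap.liftBaseChange C e.symm.toLinearMap (1 ⊗ₜ e x) = x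
    simp
  haveI : Module.Flat L (L ⊗[C] (C ⊗[A₀] Pn)) :=
    Module.Flat.of_linearEquiv (AlgebraTensorModule.cancelBaseChange A₀ C L L Pn)
  have hGflat : Module.Flat L (L ⊗[C] G) :=
    Module.Flat.of_retract (i.baseChange L) (r.baseChange L)
      (by rw [← LinearMap.baseChange_comp, hri, LinearMap.baseChange_id])
  -- localize
  let g : C ⊗[A₀] M →ₗ[C] L ⊗[A₀] M :=
    LinearMap.liftBaseChange C (TensorProduct.mk A₀ L M 1)
  haveI : IsLocalizedModule (Submonoid.powers h) g := by
    have hg : g = (AlgebraTensorModule.cancelBaseChange A₀ C L L M).toLinearMap.restrictScalars C ∘ₗ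
        TensorProduct.mk C L (C ⊗[A₀] M) 1 := by
      refine LinearMap.ext fun x => ?_
      induction x using TensorProduct.induction_on with
      | zero => simp
      | tmul c m =>
        simp [g, AlgebraTensorModule.cancelBaseChange_tmul, TensorProduct.smul_tmul']
      | add x y hx hy => rw [map_add, map_add, hx, hy]
    rw [hg]
    exact IsLocalizedModule.of_linearEquiv (Submonoid.powers h) (TensorProduct.mk C L (C ⊗[A₀] M) 1)
      ((AlgebraTensorModule.cancelBaseChange A₀ C L L M).restrictScalars C)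
  have hloc : ∀ k, (S k).localized' L (Submonoid.powers h) g = Im (A₀ := A₀) J M L k := by
    intro k
    show (Im (A₀ := A₀) J M C k).localized' L _ g = _
    rw [im_eq_span, im_eq_span, Submodule.localized'_span, ← Set.image_comp]
    congr 2
    funext m
    simp [g]
  let T := (S (n + 1)).toLocalizedQuotient' L (Submonoid.powers h) g
  let V := Submodule.map (S (n + 1)).mkQ (S n)
  haveI : Module.Flat L ↥(V.localized' L (Submonoid.powers h) T) :=
    GenNormFlat.flat_of_isLocalizedModule (Submonoid.powers h) L (V.toLocalized' L (Submonoid.powers h) T) hGflat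
  have hV : V.localized' L (Submonoid.powers h) T =
      Submodule.map ((S (n + 1)).localized' L (Submonoid.powers h) g).mkQ ((S n).localized' L (Submonoid.powers h) g) := by
    apply le_antisymm
    · intro x hx
      obtain ⟨v, hv, s, rfl⟩ := hx
      obtain ⟨z, hz, rfl⟩ := hv
      refine ⟨IsLocalizedModule.mk' g z s, ⟨z, hz, s, rfl⟩, ?_⟩
      symm
      rw [IsLocalizedModule.mk'_eq_iff, Submonoid.smul_def, ← IsScalarTower.algebraMap_smul L,
        ← map_smul, IsScalarTower.algebraMap_smul, ← Submonoid.smul_def, IsLocalizedModule.mk'_cancel']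
      rfl
    · rintro _ ⟨_, ⟨z, hz, s, rfl⟩, rfl⟩
      refine ⟨(S (n + 1)).mkQ z, ⟨z, hz, rfl⟩, s, ?_⟩
      rw [IsLocalizedModule.mk'_eq_iff, Submonoid.smul_def, ← IsScalarTower.algebraMap_smul L,
        ← map_smul, IsScalarTower.algebraMap_smul, ← Submonoid.smul_def, IsLocalizedModule.mk'_cancel']
      rfl
  have hfin : ∀ (P₁ P₂ : Submodule L (L ⊗[A₀] M)), (S (n + 1)).localized' L (Submonoid.powers h) g = P₁ →
      (S n).localized' L (Submonoid.powers h) g = P₂ → Module.Flat L ↥(Submodule.map P₁.mkQ P₂) := by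
    rintro _ _ rfl rfl
    rw [← hV]
    infer_instance
  exact hfin _ _ (hloc (n + 1)) (hloc n)

end GradedStrat
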